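import Cfsg.Agent.H605.MX.Act
import Cfsg.Agent.H405.UE.GD
import Cfsg.Agent.H390.PslSpec

/-!
# S3509, MIX, box M3b: the diagonal `SL₂` of an orbit of roots (helper605)

`α` a frame automorphism over `θ` (`IsFrob r e α`), `s` a root whose orbit under `θ` consists of `a` pairwise strongly
orthogonal roots.

* `dl α φ a g = ∏_{i < a} α ^ i (φ g)`;
* `SO` : strong orthogonality; `ps_comm_of_SO`;
* `hTh` : `∏_{i < a} α ^ i (h_s(c))`; `cX_hTh`, `hTh_mem`, `alpha_hTh`;
* `exists_psi` : `ψ : SL₂(F) →* Y`, `|F| = (r ^ e) ^ a`, with values in `Y^α`.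
-/

set_option autoImplicit false
set_option linter.unusedSectionVars false

namespace Cfsg.Agent.H605.MX

open CoxeterSystem Cfsg Cfsg.Lie Cfsg.Lie.ChevalleyDatum
open Cfsg.Agent.ChevalleyStructure Cfsg.Agent.ChevalleyStructure.Elts Cfsg.Agent.ChevalleyStructure.CoxeterGeom
  Cfsg.Agent.ChevalleyStructure.CoxeterGeomTypes Cfsg.Agent.ChevalleyStructure.NPerm
open Cfsg.Agent.Tits.Roots Cfsg.Agent.Tits.Core Cfsg.Agent.Nodes Cfsg.Agent.Nodes.Reps Cfsg.Agent.Nodes.BNOf
  Cfsg.Agent.Nodes.RGDChev Cfsg.Agent.Nodes.Coroot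
open Cfsg.Agent.KFacts.RgdField Cfsg.Agent.KFacts.RgdChevCoord
open Cfsg.Agent.BpExc Cfsg.Agent.BpExc.TorCent Cfsg.Agent.BpExc.TorChev Cfsg.Agent.BpExc.Tow
  Cfsg.Agent.BpExc.TowChev Cfsg.Agent.BpExc.Fr Cfsg.Agent.BpExc.LangFr
open Cfsg.Agent.ChevalleyStructure.SL2Hom (up lo mem_closure_SL2)
open Cfsg.Agent.Nodes.RGDFold Cfsg.Agent.Nodes.RGDFoldSL
open Cfsg.Agent.H469.Exc Cfsg.Agent.H469.Exc.SigFr Cfsg.Agent.H81.TorOrth
open Cfsg.Agent.H129.TorusChar
open Cfsg.Agent.LangThm (mem_XX_vec)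

universe u

/-! ### products of conjugates -/

section dl

variable {Y A : Type*} [Group Y] [Group A] (α : MulAut Y) (φ : A →* Y)

/-- `∏_{i < n} α ^ i (φ g)` -/
def dl : ℕ → A → Y
  | 0, _ => 1
  | n + 1, g => dl n g * (α ^ n) (φ g)

theorem dl_zero (g : A) : dl α φ 0 g = 1 := rfl

theorem dl_succ (n : ℕ) (g : A) : dl α φ (n + 1) g = dl α φ n g * (α ^ n) (φ g) := rfl

variable {α φ}

theorem dl_comm {y : Y} {g : A} {n : ℕ} (h : ∀ i < n, (α ^ i) (φ g) * y = y * (α ^ i) (φ g)) :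
    dl α φ n g * y = y * dl α φ n g := by
  induction n with
  | zero => rw [dl_zero, one_mul, mul_one]
  | succ n ih =>
    rw [dl_succ, mul_assoc, h n (Nat.lt_succ_self n), ← mul_assoc, ih fun i hi => h i (hi.trans (Nat.lt_succ_self n)),
      mul_assoc]

theorem dl_mem {S : Subgroup Y} {g : A} {n : ℕ} (h : ∀ i < n, (α ^ i) (φ g) ∈ S) : dl α φ n g ∈ S := by
  induction n with
  | zero => exact S.one_mem
  | succ n ih => exact S.mul_mem (ih fun i hi => h i (hi.trans (Nat.lt_succ_self n))) (h n (Nat.lt_succ_self n))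

theorem phi_mul_alpha_dl (n : ℕ) (g : A) : φ g * α (dl α φ n g) = dl α φ (n + 1) g := by
  induction n with
  | zero => rw [dl_zero, map_one, mul_one, dl_succ, dl_zero, one_mul, pow_zero, MulAut.one_apply]
  | succ n ih => rw [dl_succ, map_mul, ← mul_assoc, ih, dl_succ α φ (n + 1), pow_succ' α n, MulAut.mul_apply]

variable {a : ℕ} (H : ∀ i, 0 < i → i < a → ∀ g h, φ g * (α ^ i) (φ h) = (α ^ i) (φ h) * φ g)

include H

theorem dl_mul {n : ℕ} (hn : n ≤ a) (g h : A) : dl α φ n (g * h) = dl α φ n g * dl α φ n h := by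
  induction n with
  | zero => rw [dl_zero, dl_zero, dl_zero, one_mul]
  | succ n ih =>
    have h1 : dl α φ n h * (α ^ n) (φ g) = (α ^ n) (φ g) * dl α φ n h := by
      refine dl_comm fun i hi => ?_
      have h2 := congrArg (α ^ i) (H (n - i) (by omega) (by omega) h g)
      have h3 : (α ^ i) ((α ^ (n - i)) (φ g)) = (α ^ n) (φ g) := by
        rw [← MulAut.mul_apply, ← pow_add]
        congr 2
        omega
      rw [map_mul, map_mul, h3] at h2
      exact h2
    rw [dl_succ, dl_succ, dl_succ, ih (by omega), map_mul, map_mul]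
    calc dl α φ n g * dl α φ n h * ((α ^ n) (φ g) * (α ^ n) (φ h)) =
        dl α φ n g * (dl α φ n h * (α ^ n) (φ g)) * (α ^ n) (φ h) := by group
      _ = dl α φ n g * ((α ^ n) (φ g) * dl α φ n h) * (α ^ n) (φ h) := by rw [h1]
      _ = _ := by group

/-- the homomorphism `g ↦ ∏_{i < a} α ^ i (φ g)` -/
def dlHom : A →* Y where
  toFun := dl α φ a
  map_one' := by
    have h := dl_mul H le_rfl 1 1
    rw [one_mul] at h
    exact mul_eq_left.1 h.symm
  map_mul' := dl_mul H le_rfl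

theorem dlHom_apply (g : A) : dlHom H g = dl α φ a g := rfl

theorem alpha_dl (_ha : 0 < a) {g : A} (hg : (α ^ a) (φ g) = φ g) : α (dl α φ a g) = dl α φ a g := by
  have h1 := phi_mul_alpha_dl (α := α) (φ := φ) a g
  rw [dl_succ, hg] at h1
  have h2 : dl α φ a g * φ g = φ g * dl α φ a g := by
    refine dl_comm fun i hi => ?_
    rcases Nat.eq_zero_or_pos i with rfl | hi0
    · rfl
    · exact (H i hi0 hi g g).symm
  rw [h2] at h1
  exact mul_left_cancel h1

end dl

/-! ### strong orthogonality -/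

/-- strongly orthogonal roots -/
def SO {l : ℕ} {M : CoxeterMatrix (Fin l)} {W : Type*} [Group W] (cs : CoxeterSystem M W) {A : Fin l → Fin l → ℤ}
    (h : IsCartan M A) (a b : Fin l → ℤ) : Prop :=
  a ≠ b ∧ a ≠ -b ∧ ∀ i j : ℤ, i ≠ 0 → j ≠ 0 → ¬ IsRoot cs h (i • a + j • b)

section so

variable {D : ChevalleyDatum} {l : ℕ} {M : CoxeterMatrix (Fin l)} (hp : IsType D l M) {k : Type u} [Field k]
  {W : Type*} [Group W] (cs : CoxeterSystem M W)

include cs in
theorem XX_comm_of_SO {a b : Fin l → ℤ} (ha : IsRoot cs hp.isCartan a) (hb : IsRoot cs hp.isCartan b) (hab : a ≠ b)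
    (hab' : a ≠ -b) (h : ∀ i j : ℕ, 0 < i → 0 < j → ¬ IsRoot cs hp.isCartan (i • a + j • b))
    {x y : ↥(D.group k)} (hx : x ∈ XX D l k a) (hy : y ∈ XX D l k b) : x * y = y * x := by
  have h1 := CommZ.comm_mem_Z hp cs ha hb hab hab' hx hy
  have h2 : RGD.Sup (XX D l k) (CommZ.combZ cs hp a b) ≤ ⊥ := by
    refine RGD.Sup_le fun z hz => ?_
    obtain ⟨hz1, i, j, hi, hj, rfl⟩ := hz
    exact absurd hz1 (h i j hi hj)
  have h3 := Subgroup.mem_bot.1 (h2 h1)
  exact commutatorElement_eq_one_iff_mul_comm.1 h3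

include cs in
theorem ps_comm_of_SO {s t : ℕ} (hs : s < D.nroots) (ht : t < D.nroots)
    (h : SO cs hp.isCartan (vec D l s) (vec D l t)) (x y : Matrix.SpecialLinearGroup (Fin 2) k) :
    ps hp hs x * ps hp ht y = ps hp ht y * ps hp hs x := by
  obtain ⟨h1, h2, h3⟩ := h
  have hns := neg_lt hp.inList hs
  have hnt := neg_lt hp.inList ht
  have rs := (isRoot_iff hp cs (vec D l s)).2 ⟨s, hs, rfl⟩
  have rt := (isRoot_iff hp cs (vec D l t)).2 ⟨t, ht, rfl⟩
  have vs := vec_neg hp hs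
  have vt := vec_neg hp ht
  have hn : ∀ i : ℕ, 0 < i → (i : ℤ) ≠ 0 := fun i hi => by exact_mod_cast hi.ne'
  have c1 : ∀ a b : k, xs hp.inList s a * xs hp.inList t b = xs hp.inList t b * xs hp.inList s a := fun a b =>
    XX_comm_of_SO hp cs rs rt h1 h2 (fun i j hi hj => by
      have := h3 i j (hn i hi) (hn j hj)
      rwa [natCast_zsmul, natCast_zsmul] at this) (xs_mem hp hs a) (xs_mem hp ht b)
  have c2 : ∀ a b : k, xs hp.inList (D.neg s) a * xs hp.inList t b = xs hp.inList t b * xs hp.inList (D.neg s) a :=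
    fun a b => XX_comm_of_SO hp cs rs.neg rt (fun e => h2 (by rw [← e, neg_neg])) (fun e => h1 (neg_injective e))
      (fun i j hi hj => by
        have := h3 (-i) j (neg_ne_zero.2 (hn i hi)) (hn j hj)
        rwa [neg_smul, natCast_zsmul, natCast_zsmul, ← smul_neg] at this)
      (by rw [← vs]; exact xs_mem hp hns a) (xs_mem hp ht b)
  have c3 : ∀ a b : k, xs hp.inList s a * xs hp.inList (D.neg t) b = xs hp.inList (D.neg t) b * xs hp.inList s a :=
    fun a b => XX_comm_of_SO hp cs rs rt.neg h2 (fun e => h1 (by rw [e, neg_neg]))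
      (fun i j hi hj => by
        have := h3 i (-j) (hn i hi) (neg_ne_zero.2 (hn j hj))
        rwa [neg_smul, natCast_zsmul, natCast_zsmul, ← smul_neg] at this)
      (xs_mem hp hs a) (by rw [← vt]; exact xs_mem hp hnt b)
  have c4 : ∀ a b : k, xs hp.inList (D.neg s) a * xs hp.inList (D.neg t) b =
      xs hp.inList (D.neg t) b * xs hp.inList (D.neg s) a :=
    fun a b => XX_comm_of_SO hp cs rs.neg rt.neg (fun e => h1 (neg_injective e)) (fun e => h2 (by
      rw [neg_neg] at e; rw [← e, neg_neg]))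
      (fun i j hi hj => by
        have := h3 (-i) (-j) (neg_ne_zero.2 (hn i hi)) (neg_ne_zero.2 (hn j hj))
        rwa [neg_smul, neg_smul, natCast_zsmul, natCast_zsmul, ← smul_neg, ← smul_neg] at this)
      (by rw [← vs]; exact xs_mem hp hns a) (by rw [← vt]; exact xs_mem hp hnt b)
  have d1 : ∀ z : ↥(D.group k), (∀ b, z * xs hp.inList t b = xs hp.inList t b * z) →
      (∀ b, z * xs hp.inList (D.neg t) b = xs hp.inList (D.neg t) b * z) → ∀ y, z * ps hp ht y = ps hp ht y * z := by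
    intro z hz hz' y
    have h4 : Subgroup.closure (Set.range (up (F := k)) ∪ Set.range (lo (F := k))) ≤
        (Subgroup.centralizer {z}).comap (ps hp ht) := by
      rw [Subgroup.closure_le]
      rintro _ (⟨b, rfl⟩ | ⟨b, rfl⟩)
      · show ps hp ht (up b) ∈ Subgroup.centralizer {z}
        rw [Subgroup.mem_centralizer_singleton_iff, ps_up]
        exact (hz b).symm
      · show ps hp ht (lo b) ∈ Subgroup.centralizer {z}
        rw [Subgroup.mem_centralizer_singleton_iff, ps_lo]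
        exact (hz' b).symm
    exact (Subgroup.mem_centralizer_singleton_iff.1 (h4 (mem_closure_SL2 y))).symm
  have h5 : Subgroup.closure (Set.range (up (F := k)) ∪ Set.range (lo (F := k))) ≤
      (Subgroup.centralizer {ps hp ht y}).comap (ps hp hs) := by
    rw [Subgroup.closure_le]
    rintro _ (⟨b, rfl⟩ | ⟨b, rfl⟩)
    · show ps hp hs (up b) ∈ Subgroup.centralizer {ps hp ht y}
      rw [Subgroup.mem_centralizer_singleton_iff, ps_up]
      exact d1 _ (c1 b) (c3 b) y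
    · show ps hp hs (lo b) ∈ Subgroup.centralizer {ps hp ht y}
      rw [Subgroup.mem_centralizer_singleton_iff, ps_lo]
      exact d1 _ (c2 b) (c4 b) y
  exact Subgroup.mem_centralizer_singleton_iff.1 (h5 (mem_closure_SL2 x))

end so

/-! ### torus elements -/

section tor

variable {D : ChevalleyDatum} {l : ℕ} {M : CoxeterMatrix (Fin l)} (hp : IsType D l M) {k : Type u} [Field k]
  {W : Type*} [Group W] (cs : CoxeterSystem M W)

include cs in
/-- **the characters of `h_s(c)`** -/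
theorem cX_hS [IsAlgClosed k] (hk : LocFin k) (r : ℕ) [Fact r.Prime] [CharP k r] {s : ℕ} (hs : s < D.nroots) {c : k}
    (hc : c ≠ 0) (x : Fin l → ℤ) : cX hp (ps hp hs (hS c)) x = c ^ cpr cs hp.isCartan x (vec D l s) := by
  have := finite_W hp cs
  obtain ⟨w, i, hw⟩ := (isRoot_iff hp cs (vec D l s)).2 ⟨s, hs, rfl⟩
  have H := tow (k := k) hp cs hk r
  have hTL := TL_eq (k := k) hp hk
  have hXL := XL_eq (k := k) hp hk
  obtain ⟨g, -, hg⟩ := H.exists_rp w
  have F : Fr cs hp.isCartan (TT D k) (XX D l k) (MulAut.conj g) (repAut cs hp.isCartan w) := by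
    have h1 := Fr.conj H hg
    rwa [hTL, hXL] at h1
  have hi := simple_lt hp.inList (lt_rank hp i)
  obtain ⟨s', hs', e', c', hc', h1, h2⟩ := act_fr hp cs hk (r := r) (IsFrob.conj g) F hi
  have e2 : s' = s := by
    refine vec_inj hp hs' hs (e'.trans ?_)
    rw [vec_simple hp i, repAut_apply, hw]
  subst e2
  obtain ⟨μ, hμ⟩ := IsAlgClosed.exists_pow_nat_eq c' (n := 2) two_pos
  have hμ0 : μ ≠ 0 := by
    rintro rfl
    exact hc' (by rw [← hμ]; ring)
  have h3 := alpha_hS hp hi hs (f := RingHom.id k) (μ := μ) hμ0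
    (fun t => by rw [h1, hμ, pow_zero, pow_one]; rfl) (fun t => by rw [h2, hμ, pow_zero, pow_one]; rfl) hc
  have h4 : ps hp hi (hS c) = KFacts.RgdChevCoord.hc hp i c := Subtype.ext (coe_ps_hS hp hi c)
  have hg' : ∃ hN : NSys M (TT D k) (nc hp k), Rp cs hN w g := by
    have key : ∀ (T : Subgroup ↥(D.group k)) (h1 : NSys M T (nc hp k)) (_ : T = TT D k), Rp cs h1 w g →
        ∃ hN : NSys M (TT D k) (nc hp k), Rp cs hN w g := by
      intro T h1 h2 h3
      subst h2
      exact ⟨h1, h3⟩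
    exact key _ _ hTL hg
  obtain ⟨hN, hg'⟩ := hg'
  have h5 := cX_rp hp cs hk r hg' (hc_mem hp i hc) (rep cs hp.isCartan w⁻¹ x)
  rw [← rep_mul_apply, mul_inv_cancel, map_one, Module.End.one_apply] at h5
  have h6 := Cfsg.Agent.H405.UE.cX_hc hp i (Units.mk0 c hc) (rep cs hp.isCartan w⁻¹ x)
  have h7 : ps hp hs (hS c) = g * KFacts.RgdChevCoord.hc hp i c * g⁻¹ := by
    rw [← h4]
    exact h3.symm
  rw [h7, h5, hw, cpr_rep_sr]
  rw [Units.val_zpow_eq_zpow_val] at h6
  exact h6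

variable [IsAlgClosed k] (hk : LocFin k) {r e : ℕ} [Fact r.Prime] [CharP k r] {α : MulAut ↥(D.group k)}
  {θ : (Fin l → ℤ) ≃+ (Fin l → ℤ)} (hα : IsFrob r e α) (F : Fr cs hp.isCartan (TT D k) (XX D l k) α θ)

include hk hα F in
/-- a frame automorphism maps `h_s(c)` to `h_{s'}(c ^ r ^ e)` -/
theorem alpha_h {s s' : ℕ} (hs : s < D.nroots) (hs' : s' < D.nroots) (hv : vec D l s' = θ (vec D l s)) {c : k}
    (hc : c ≠ 0) : α (ps hp hs (hS c)) = ps hp hs' (hS (c ^ r ^ e)) := by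
  obtain ⟨s'', hs'', e', c', hc', h1, h2⟩ := act_fr hp cs hk hα F hs
  obtain rfl : s'' = s' := vec_inj hp hs'' hs' (e'.trans hv.symm)
  obtain ⟨μ, hμ⟩ := IsAlgClosed.exists_pow_nat_eq c' (n := 2) two_pos
  have hμ0 : μ ≠ 0 := by
    rintro rfl
    exact hc' (by rw [← hμ]; ring)
  have h3 := alpha_hS hp hs hs'' (f := iterateFrobenius k r e) (μ := μ) hμ0
    (fun t => by rw [h1, hμ, iterateFrobenius_def]) (fun t => by rw [h2, hμ, iterateFrobenius_def]) hc
  rwa [iterateFrobenius_def] at h3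

include hk hα F in
/-- the powers of a frame automorphism -/
theorem alpha_pow_h {s : ℕ} (hs : s < D.nroots) (n : ℕ) : ∃ s' < D.nroots, vec D l s' = θ^[n] (vec D l s) ∧
    ∃ hs' : s' < D.nroots, ∀ c : k, c ≠ 0 → (α ^ n) (ps hp hs (hS c)) = ps hp hs' (hS (c ^ (r ^ e) ^ n)) := by
  induction n with
  | zero => exact ⟨s, hs, rfl, hs, fun c _ => by rw [pow_zero, pow_zero, pow_one, MulAut.one_apply]⟩
  | succ n ih =>
    obtain ⟨s', -, h1, hs', h2⟩ := ih
    have hr : IsRoot cs hp.isCartan (θ (vec D l s')) := (F.root _).2 ((isRoot_iff hp cs _).2 ⟨s', hs', rfl⟩)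
    obtain ⟨s'', hs'', h3⟩ := (isRoot_iff hp cs _).1 hr
    refine ⟨s'', hs'', ?_, hs'', fun c hc => ?_⟩
    · rw [h3, h1, Function.iterate_succ_apply']
    · rw [pow_succ', MulAut.mul_apply, h2 c hc, alpha_h hp cs hk hα F hs' hs'' h3 (pow_ne_zero _ hc), ← pow_mul,
        ← pow_succ]

/-- `∏_{i < a} α ^ i (h_s(c))` -/
noncomputable def hTh {s : ℕ} (hs : s < D.nroots) (α : MulAut ↥(D.group k)) (a : ℕ) (c : k) : ↥(D.group k) :=
  dl α (ps hp hs) a (hS c)

include hk hα F in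
theorem hTh_mem {s : ℕ} (hs : s < D.nroots) (a : ℕ) {c : k} (hc : c ≠ 0) : hTh hp hs α a c ∈ TT D k := by
  refine dl_mem fun i _ => ?_
  obtain ⟨s', -, -, hs', h2⟩ := alpha_pow_h hp cs hk hα F hs i
  rw [h2 c hc]
  exact ps_hS_mem hp hs' (pow_ne_zero _ hc)

include hk hα F in
/-- **the characters of `hTh`** -/
theorem cX_hTh {s : ℕ} (hs : s < D.nroots) (a : ℕ) {c : k} (hc : c ≠ 0) (x : Fin l → ℤ) :
    cX hp (hTh hp hs α a c) x =
      c ^ (∑ i ∈ Finset.range a, ((r ^ e) ^ i : ℤ) * cpr cs hp.isCartan x (θ^[i] (vec D l s))) := by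
  induction a with
  | zero =>
    rw [Finset.sum_range_zero, zpow_zero]
    exact cX_one hp x
  | succ a ih =>
    have h1 : hTh hp hs α (a + 1) c = hTh hp hs α a c * (α ^ a) (ps hp hs (hS c)) := rfl
    obtain ⟨s', -, h3, hs', h2⟩ := alpha_pow_h hp cs hk hα F hs a
    rw [h1, h2 c hc, cX_mul hp (hTh_mem hp cs hk hα F hs a hc) (ps_hS_mem hp hs' (pow_ne_zero _ hc)), ih,
      cX_hS hp cs hk r hs' (pow_ne_zero _ hc), h3, Finset.sum_range_succ, zpow_add₀ hc, zpow_mul c, ← zpow_natCast c]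
    push_cast
    rfl

include hk hα F in
theorem alpha_pow_hS {s : ℕ} (hs : s < D.nroots) {a : ℕ} (hθ : θ^[a] (vec D l s) = vec D l s) {c : k} (hc : c ≠ 0)
    (hca : c ^ (r ^ e) ^ a = c) : (α ^ a) (ps hp hs (hS c)) = ps hp hs (hS c) := by
  obtain ⟨s', -, h3, hs', h2⟩ := alpha_pow_h hp cs hk hα F hs a
  obtain rfl : s' = s := vec_inj hp hs' hs (h3.trans hθ)
  rw [h2 c hc, hca]

include hk hα F in
/-- **`hTh` is fixed** -/
theorem alpha_hTh {s : ℕ} (hs : s < D.nroots) {a : ℕ} (hθ : θ^[a] (vec D l s) = vec D l s) {c : k} (hc : c ≠ 0)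
    (hca : c ^ (r ^ e) ^ a = c) : α (hTh hp hs α a c) = hTh hp hs α a c := by
  have h1 := phi_mul_alpha_dl (α := α) (φ := ps hp hs) a (hS c)
  rw [dl_succ, alpha_pow_hS hp cs hk hα F hs hθ hc hca] at h1
  have h2 : dl α (ps hp hs) a (hS c) * ps hp hs (hS c) = ps hp hs (hS c) * dl α (ps hp hs) a (hS c) :=
    TT_comm hp _ (hTh_mem hp cs hk hα F hs a hc) _ (ps_hS_mem hp hs hc)
  rw [h2] at h1
  exact mul_left_cancel h1

end tor

end Cfsg.Agent.H605.MX
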