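import Cfsg.Agent.H605.MX.Orb
import Cfsg.Agent.Nodes.SimplyLaced

/-!
# S3509, MIX, box M3b: the torus elements and root elements in `K` (helper605)

`b` a root, `a` the period of `b` under `θ`, the roots of the orbit are orthogonal (simply laced). `K` contains the elements
of order prime to `r` of the group generated by the elements fixed by `α` of `⟨X_c : c ∈ ± orbit⟩`.

* `so_of_cpr` : orthogonal roots are strongly orthogonal (simply laced);
* `caseA` : `hTh s a c ∈ K`;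
* `case1` : `a = 1`, `r ^ e ≥ 3`: a root element `v` fixed by `α` in `K`, or commuting with an involution of `K`, `r ≠ 2`.
-/

set_option autoImplicit false
set_option linter.unusedSectionVars false

namespace Cfsg.Agent.H605.MX

open CoxeterSystem Cfsg Cfsg.Lie Cfsg.Lie.ChevalleyDatum
open Cfsg.Agent.ChevalleyStructure Cfsg.Agent.ChevalleyStructure.Elts Cfsg.Agent.ChevalleyStructure.CoxeterGeom
  Cfsg.Agent.ChevalleyStructure.CoxeterGeomTypes Cfsg.Agent.ChevalleyStructure.NPerm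
open Cfsg.Agent.Tits.Roots Cfsg.Agent.Tits.Core Cfsg.Agent.Nodes Cfsg.Agent.Nodes.Reps Cfsg.Agent.Nodes.BNOf
  Cfsg.Agent.Nodes.RGDChev Cfsg.Agent.Nodes.Coroot Cfsg.Agent.Nodes.SimplyLaced
open Cfsg.Agent.KFacts.RgdField Cfsg.Agent.KFacts.RgdChevCoord
open Cfsg.Agent.BpExc Cfsg.Agent.BpExc.TorCent Cfsg.Agent.BpExc.TorChev Cfsg.Agent.BpExc.Tow
  Cfsg.Agent.BpExc.TowChev Cfsg.Agent.BpExc.Fr Cfsg.Agent.BpExc.LangFr
open Cfsg.Agent.ChevalleyStructure.SL2Hom (up lo mem_closure_SL2)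
open Cfsg.Agent.Nodes.RGDFold Cfsg.Agent.Nodes.RGDFoldSL
open Cfsg.Agent.H469.Exc Cfsg.Agent.H469.Exc.SigFr Cfsg.Agent.H81.TorOrth
open Cfsg.Agent.H129.TorusChar
open Cfsg.Agent.LangThm (mem_XX_vec)

universe u

section comb

variable {I W : Type*} [Fintype I] [DecidableEq I] [Group W] [Finite W] {M : CoxeterMatrix I} {cs : CoxeterSystem M W}
  {A : I → I → ℤ} {h : IsCartan M A}

theorem ne_of_cpr {a b : I → ℤ} (hb : IsRoot cs h b) (h0 : cpr cs h a b = 0) : a ≠ b ∧ a ≠ -b := by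
  constructor
  · rintro rfl
    rw [cpr_self cs h hb] at h0
    omega
  · rintro rfl
    rw [cpr_neg cs h b hb, cpr_self cs h hb] at h0
    omega

/-- orthogonal roots are strongly orthogonal -/
theorem so_aux (h4 : ∀ i j, M i j ≠ 4) (h6 : ∀ i j, M i j ≠ 6) {a b : I → ℤ} (ha : IsRoot cs h a) (hb : IsRoot cs h b)
    (h0 : cpr cs h a b = 0) {i j : ℤ} (hi : i ≠ 0) (hj : j ≠ 0) : ¬ IsRoot cs h (i • a + j • b) := by
  intro hz
  set z := i • a + j • b with hzdef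
  have h0' : cpr cs h b a = 0 := (cpr_zero_comm cs h ha hb).1 h0
  have e1 : cpr cs h z a = 2 * i := by
    rw [hzdef, cpr_add cs h _ _ ha, cpr_smul cs h _ _ ha, cpr_smul cs h _ _ ha, cpr_self cs h ha, h0']
    ring
  have e2 : cpr cs h z b = 2 * j := by
    rw [hzdef, cpr_add cs h _ _ hb, cpr_smul cs h _ _ hb, cpr_smul cs h _ _ hb, cpr_self cs h hb, h0]
    ring
  have key : ∀ {c : I → ℤ} {m : ℤ}, IsRoot cs h c → m ≠ 0 → cpr cs h z c = 2 * m → z = c ∨ z = -c := by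
    intro c m hc hm e
    by_contra hcon
    push Not at hcon
    have h5 := abs_cpr_le_one cs h h4 h6 hz hc hcon.1 hcon.2
    rw [e, abs_le] at h5
    omega
  obtain ⟨n1, n2⟩ := ne_of_cpr (h := h) hb h0
  rcases key ha hi e1 with h1 | h1 <;> rcases key hb hj e2 with h2 | h2
  · exact n1 (h1.symm.trans h2)
  · exact n2 (h1.symm.trans h2)
  · exact n2 (by rw [← h2, h1, neg_neg])
  · exact n1 (neg_injective (h1.symm.trans h2))

end comb

theorem so_of_cpr {l : ℕ} {M : CoxeterMatrix (Fin l)} {W : Type*} [Group W] [Finite W] {cs : CoxeterSystem M W}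
    {A : Fin l → Fin l → ℤ} {h : IsCartan M A} (h4 : ∀ i j, M i j ≠ 4) (h6 : ∀ i j, M i j ≠ 6) {a b : Fin l → ℤ}
    (ha : IsRoot cs h a) (hb : IsRoot cs h b) (h0 : cpr cs h a b = 0) : SO cs h a b :=
  ⟨(ne_of_cpr hb h0).1, (ne_of_cpr hb h0).2, fun _ _ hi hj => so_aux h4 h6 ha hb h0 hi hj⟩

/-- every node has an odd Cartan integer in its row -/
theorem exists_odd {D : ChevalleyDatum} {l : ℕ} {M : CoxeterMatrix (Fin l)} (hp : IsType D l M)
    (h4 : ∀ i j, M i j ≠ 4) : ∀ i, ∃ j, Odd (cartanOf D l i j) := by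
  simp only [IsType, typeList, List.mem_cons, List.not_mem_nil, or_false, Prod.mk.injEq, Sigma.mk.injEq] at hp
  rcases hp with ⟨rfl, rfl, hM⟩ | ⟨rfl, rfl, hM⟩ | ⟨rfl, rfl, hM⟩ | ⟨rfl, rfl, hM⟩ | ⟨rfl, rfl, hM⟩ | ⟨rfl, rfl, hM⟩ |
    ⟨rfl, rfl, hM⟩
  all_goals first
    | decide +kernel
    | (exfalso; obtain rfl := eq_of_heq hM; exact h4 0 1 (by decide +kernel))

section

variable {D : ChevalleyDatum} {l : ℕ} {M : CoxeterMatrix (Fin l)} (hp : IsType D l M) {k : Type u} [Field k]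
  {W : Type*} [Group W] (cs : CoxeterSystem M W)

theorem exists_odd_cpr (h4 : ∀ i j, M i j ≠ 4) {b : Fin l → ℤ} (hb : IsRoot cs hp.isCartan b) :
    ∃ b', IsRoot cs hp.isCartan b' ∧ Odd (cpr cs hp.isCartan b' b) := by
  have := finite_W hp cs
  obtain ⟨w, i, rfl⟩ := hb
  obtain ⟨j, hj⟩ := exists_odd hp h4 i
  refine ⟨rep cs hp.isCartan w (sr j), (isRoot_sr cs hp.isCartan j).act w, ?_⟩
  rw [cpr_rep_sr, rep_inv_apply]
  have e : pairing (cartanOf D l) i (sr j) = cartanOf D l i j := by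
    rw [sr, pairing_single, mul_one]
  rw [e]
  exact hj

include hp cs in
/-- `h_s(-1) ≠ 1` -/
theorem hS_neg_one_ne [IsAlgClosed k] (h4 : ∀ i j, M i j ≠ 4) (hk : LocFin k) (r : ℕ) [Fact r.Prime] [CharP k r] (hr2 : r ≠ 2) {s : ℕ}
    (hs : s < D.nroots) : ps hp hs (hS (-1 : k)) ≠ 1 := by
  intro h
  obtain ⟨b', -, hodd⟩ := exists_odd_cpr hp cs h4 ((isRoot_iff hp cs _).2 ⟨s, hs, rfl⟩)
  have h1 := cX_hS hp cs hk r hs (c := -1) (neg_ne_zero.2 one_ne_zero) b'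
  rw [h, cX_one, hodd.neg_one_zpow] at h1
  have h2 : (2 : k) = 0 := by linear_combination h1
  have h3 : ((2 : ℕ) : k) = 0 := by exact_mod_cast h2
  rw [CharP.cast_eq_zero_iff k r] at h3
  rcases (Nat.dvd_prime Nat.prime_two).1 h3 with h4 | h4
  · exact (Fact.out : r.Prime).one_lt.ne' h4
  · exact hr2 h4

variable [IsAlgClosed k] (hk : LocFin k) {r e : ℕ} [Fact r.Prime] [CharP k r] {α : MulAut ↥(D.group k)}
  {θ : (Fin l → ℤ) ≃+ (Fin l → ℤ)} (hα : IsFrob r e α) (F : Fr cs hp.isCartan (TT D k) (XX D l k) α θ)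

/-- the group generated by the fixed elements of `⟨X_c : c ∈ ± orbit⟩` -/
def Cl (α : MulAut ↥(D.group k)) (θ : (Fin l → ℤ) ≃+ (Fin l → ℤ)) (b : Fin l → ℤ) : Subgroup ↥(D.group k) :=
  Subgroup.closure ({x | x ∈ RGD.Sup (XX D l k) {c | ∃ j : ℕ, c = θ^[j] b} ∧ α x = x} ∪
    {x | x ∈ RGD.Sup (XX D l k) {c | ∃ j : ℕ, c = -θ^[j] b} ∧ α x = x})

include hp F in
theorem fr_pow_mem {b : Fin l → ℤ} (hb : IsRoot cs hp.isCartan b) {x : ↥(D.group k)} (hx : x ∈ XX D l k b) (i : ℕ) :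
    (α ^ i) x ∈ XX D l k (θ^[i] b) := by
  obtain ⟨θ', F', h1⟩ := F.pow i
  rw [← h1]
  exact (F'.map b hb x).2 hx

theorem iter_neg (θ : (Fin l → ℤ) ≃+ (Fin l → ℤ)) (b : Fin l → ℤ) (i : ℕ) : θ^[i] (-b) = -θ^[i] b := by
  induction i with
  | zero => rfl
  | succ i ih => rw [Function.iterate_succ_apply', ih, map_neg, Function.iterate_succ_apply']

include F in
theorem dl_up_mem {s : ℕ} (hs : s < D.nroots) (n : ℕ) (u : k) :
    dl α (ps hp hs) n (up u) ∈ RGD.Sup (XX D l k) {c | ∃ j : ℕ, c = θ^[j] (vec D l s)} := by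
  refine dl_mem fun i _ => ?_
  have h1 := fr_pow_mem hp cs F ((isRoot_iff hp cs _).2 ⟨s, hs, rfl⟩) (xs_mem hp hs u) i
  rw [← ps_up hp hs] at h1
  exact RGD.le_Sup (X := XX D l k) (S := {c | ∃ j : ℕ, c = θ^[j] (vec D l s)}) ⟨i, rfl⟩ h1

include F in
theorem dl_lo_mem {s : ℕ} (hs : s < D.nroots) (n : ℕ) (u : k) :
    dl α (ps hp hs) n (lo u) ∈ RGD.Sup (XX D l k) {c | ∃ j : ℕ, c = -θ^[j] (vec D l s)} := by
  refine dl_mem fun i _ => ?_
  have hns := neg_lt hp.inList hs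
  have h1 := fr_pow_mem hp cs F ((isRoot_iff hp cs _).2 ⟨D.neg s, hns, rfl⟩) (xs_mem hp hns u) i
  rw [← ps_lo hp hs, vec_neg hp hs, iter_neg] at h1
  exact RGD.le_Sup (X := XX D l k) (S := {c | ∃ j : ℕ, c = -θ^[j] (vec D l s)}) ⟨i, rfl⟩ h1

/-- the finite field with `(r ^ e) ^ a` elements inside `k` -/
theorem exists_field (r e a : ℕ) [Fact r.Prime] [CharP k r] (hq : 1 < (r ^ e) ^ a) :
    ∃ (E : Type) (_ : Field E) (_ : Fintype E) (_ : E →+* k), Fintype.card E = (r ^ e) ^ a := by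
  have hn : e * a ≠ 0 := by
    intro h
    rw [← pow_mul, h, pow_zero] at hq
    omega
  let _ : Fintype (GaloisField r (e * a)) := Fintype.ofFinite _
  let _ : Algebra (ZMod r) k := ZMod.algebra k r
  refine ⟨GaloisField r (e * a), inferInstance, inferInstance, (IsAlgClosed.lift (M := k) (R := ZMod r)
    (S := GaloisField r (e * a))).toRingHom, ?_⟩
  rw [← Nat.card_eq_fintype_card, GaloisField.card r (e * a) hn, pow_mul]

theorem coprime_pred {Q r : ℕ} (hr : r.Prime) (hrQ : r ∣ Q) (hQ : 1 < Q) : (Q - 1).Coprime r := by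
  rw [Nat.coprime_comm, Nat.Prime.coprime_iff_not_dvd hr]
  intro h
  have h1 := (Nat.dvd_sub_iff_right hQ.le hrQ).1 h
  exact hr.one_lt.ne' (Nat.dvd_one.1 h1)

theorem hS_mul {E : Type*} [Field E] {c d : E} (hc : c ≠ 0) (hd : d ≠ 0) : hS c * hS d = hS (c * d) := by
  apply Subtype.ext
  rw [Matrix.SpecialLinearGroup.coe_mul, coe_hS hc, coe_hS hd, coe_hS (mul_ne_zero hc hd)]
  ext i j
  fin_cases i <;> fin_cases j <;> simp [Matrix.mul_apply, Fin.sum_univ_two, mul_comm]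

theorem hS_one {E : Type*} [Field E] : hS (1 : E) = 1 := by
  have h := hS_mul (one_ne_zero (α := E)) one_ne_zero
  rw [mul_one] at h
  exact mul_eq_left.1 h

theorem hS_pow {E : Type*} [Field E] {c : E} (hc : c ≠ 0) (n : ℕ) : hS c ^ n = hS (c ^ n) := by
  induction n with
  | zero => rw [pow_zero, pow_zero, hS_one]
  | succ n ih => rw [pow_succ, ih, hS_mul (pow_ne_zero _ hc) hc, pow_succ]

/-- the image of `ψ` -/
theorem range_le_Cl {s : ℕ} {a : ℕ} {E : Type*} [Field E] {ψ : Matrix.SpecialLinearGroup (Fin 2) E →* ↥(D.group k)}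
    (hs : s < D.nroots) (F : Fr cs hp.isCartan (TT D k) (XX D l k) α θ) (h1 : ∀ g, α (ψ g) = ψ g)
    (h2 : ∀ c, ∃ u, ψ (up c) = dl α (ps hp hs) a (up u)) (h3 : ∀ c, ∃ u, ψ (lo c) = dl α (ps hp hs) a (lo u))
    (g : Matrix.SpecialLinearGroup (Fin 2) E) : ψ g ∈ Cl α θ (vec D l s) := by
  have h : Subgroup.closure (Set.range (up (F := E)) ∪ Set.range (lo (F := E))) ≤
      (Cl α θ (vec D l s)).comap ψ := by
    rw [Subgroup.closure_le]
    rintro _ (⟨c, rfl⟩ | ⟨c, rfl⟩)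
    · refine Subgroup.subset_closure (Or.inl ⟨?_, h1 _⟩)
      obtain ⟨u, hu⟩ := h2 c
      rw [hu]
      exact dl_up_mem hp cs F hs a u
    · refine Subgroup.subset_closure (Or.inr ⟨?_, h1 _⟩)
      obtain ⟨u, hu⟩ := h3 c
      rw [hu]
      exact dl_lo_mem hp cs F hs a u
  exact h (mem_closure_SL2 g)

include hk hα F in
/-- **Case (A).** -/
theorem caseA {s : ℕ} (hs : s < D.nroots) {a : ℕ} (hq : 1 < (r ^ e) ^ a) (hθ : θ^[a] (vec D l s) = vec D l s)
    (hSO : ∀ i, 0 < i → i < a → SO cs hp.isCartan (vec D l s) (θ^[i] (vec D l s))) {K : Subgroup ↥(D.group k)}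
    (hK : ∀ y ∈ Cl α θ (vec D l s), ∀ m : ℕ, m.Coprime r → y ^ m = 1 → y ∈ K) {c : k} (hc : c ≠ 0)
    (hca : c ^ (r ^ e) ^ a = c) : hTh hp hs α a c ∈ K := by
  obtain ⟨E, _, _, j, hE⟩ := exists_field (k := k) r e a hq
  obtain ⟨ψ, h1, -, h3, -, h5, h6⟩ := exists_psi hp cs hk hα F hs hq hθ hSO hE j
  obtain ⟨d, hd⟩ := Cfsg.Agent.H390.PslSpec.mem_range_of_pow_card j (x := c) (by rw [hE, hca])
  have hd0 : d ≠ 0 := by
    rintro rfl
    rw [map_zero] at hd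
    exact hc hd.symm
  rw [← hd, ← h3 d hd0]
  have hrQ : r ∣ (r ^ e) ^ a := by
    rw [← pow_mul]
    refine dvd_pow_self r ?_
    intro h
    rw [← pow_mul, h, pow_zero] at hq
    omega
  refine hK _ (range_le_Cl hp cs hs F h1 (fun c => ?_) h6 _) ((r ^ e) ^ a - 1) (coprime_pred Fact.out hrQ hq) ?_
  · obtain ⟨u, hu, -⟩ := h5 c
    exact ⟨u, hu⟩
  · rw [← map_pow, hS_pow hd0, ← hE, FiniteField.pow_card_sub_one_eq_one d hd0, hS_one, map_one]

include hk hα F in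
/-- **The fixed roots, `r ^ e ≥ 3`.** -/
theorem case1 (h4 : ∀ i j, M i j ≠ 4) {s : ℕ} (hs : s < D.nroots) (hq : 3 ≤ r ^ e) (hθ : θ (vec D l s) = vec D l s)
    {K : Subgroup ↥(D.group k)} (hK : ∀ y ∈ Cl α θ (vec D l s), ∀ m : ℕ, m.Coprime r → y ^ m = 1 → y ∈ K)
    (hPK : ∀ g ∈ XX D l k (vec D l s), α g = g → ∀ x ∈ K, g * x * g⁻¹ ∈ K) :
    ∃ v ∈ XX D l k (vec D l s), v ≠ 1 ∧ α v = v ∧ (v ∈ K ∨ (r ≠ 2 ∧ ∃ y ∈ K, y ≠ 1 ∧ y ^ 2 = 1 ∧ y * v = v * y)) := by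
  classical
  have hq' : 1 < (r ^ e) ^ 1 := by rw [pow_one]; omega
  have hSO : ∀ i, 0 < i → i < 1 → SO cs hp.isCartan (vec D l s) (θ^[i] (vec D l s)) := fun i h h' => by omega
  obtain ⟨E, _, _, j, hE⟩ := exists_field (k := k) r e 1 hq'
  obtain ⟨ψ, h1, -, h3, -, h5, h6⟩ := exists_psi hp cs hk hα F hs hq' hθ hSO hE j
  have hroot : ∀ c : E, c ≠ 0 → ψ (up c) ∈ XX D l k (vec D l s) ∧ ψ (up c) ≠ 1 := by
    intro c hc
    obtain ⟨u, hu, -, hu0⟩ := h5 c
    have e1 : ψ (up c) = xs hp.inList s u := by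
      rw [hu, dl_succ, dl_zero, one_mul, pow_zero, MulAut.one_apply, ps_up]
    rw [e1]
    refine ⟨xs_mem hp hs u, fun h => hc (hu0 ?_)⟩
    rw [← xs_zero hp s] at h
    exact xs_inj hp hs h
  have hmem : ∀ d : E, d ≠ 0 → ψ (hS d) ∈ K := by
    intro d hd
    rw [h3 d hd]
    refine caseA hp cs hk hα F hs hq' hθ hSO hK ((map_ne_zero j).2 hd) ?_
    rw [← map_pow, ← hE, FiniteField.pow_card]
  by_cases hd : ∃ d : E, d ≠ 0 ∧ d ^ 2 ≠ 1
  · obtain ⟨d, hd0, hd2⟩ := hd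
    have hne : (1 - d ^ 2) ≠ 0 := sub_ne_zero.2 hd2.symm
    refine ⟨ψ (up (1 - d ^ 2)), (hroot _ hne).1, (hroot _ hne).2, h1 _, Or.inl ?_⟩
    have h7 := hPK _ (hroot 1 one_ne_zero).1 (h1 _) _ (hmem d hd0)
    have h8 := K.mul_mem h7 (K.inv_mem (hmem d hd0))
    have e1 : ψ (up 1) * ψ (hS d) * (ψ (up 1))⁻¹ * (ψ (hS d))⁻¹ = ψ (up (1 - d ^ 2)) := by
      rw [← map_inv, ← map_inv, ← map_mul, ← map_mul, ← map_mul]
      congr 1
      have e2 : up 1 * hS d * (up 1)⁻¹ * (hS d)⁻¹ = up 1 * (hS d * (up 1)⁻¹ * (hS d)⁻¹) := by group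
      rw [e2, ← up_neg, hS_up hd0, ← up_add]
      congr 1
      ring
    rwa [e1] at h8
  · push Not at hd
    have hr2 : r ≠ 2 := by
      rintro rfl
      have h2 : (2 : E) = 0 := by
        apply j.injective
        rw [map_ofNat, map_zero]
        exact_mod_cast CharP.cast_eq_zero k 2
      have h7 : (Finset.univ : Finset E) ⊆ {0, 1} := by
        intro x _
        rw [Finset.mem_insert, Finset.mem_singleton]
        by_cases hx : x = 0
        · exact Or.inl hx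
        · right
          have h8 : (x - 1) ^ 2 = 0 := by linear_combination hd x hx - (x - 1) * h2
          exact sub_eq_zero.1 ((pow_eq_zero_iff two_ne_zero).1 h8)
      have h8 := Finset.card_le_card h7
      rw [Finset.card_univ, hE, pow_one] at h8
      have h9 : ({0, 1} : Finset E).card ≤ 2 := Finset.card_le_two
      omega
    refine ⟨ψ (up 1), (hroot 1 one_ne_zero).1, (hroot 1 one_ne_zero).2, h1 _, Or.inr ⟨hr2, ψ (hS (-1)), hmem _
      (neg_ne_zero.2 one_ne_zero), ?_, ?_, ?_⟩⟩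
    · rw [h3 _ (neg_ne_zero.2 one_ne_zero), map_neg, map_one]
      show dl α (ps hp hs) 1 (hS (-1)) ≠ 1
      rw [dl_succ, dl_zero, one_mul, pow_zero, MulAut.one_apply]
      exact hS_neg_one_ne hp cs h4 hk r hr2 hs
    · rw [← map_pow, hS_pow (neg_ne_zero.2 one_ne_zero), neg_one_sq, hS_one, map_one]
    · rw [← map_mul, ← map_mul]
      congr 1
      have h7 := hS_up (neg_ne_zero.2 (one_ne_zero (α := E))) 1
      rw [neg_one_sq, one_mul, mul_inv_eq_iff_eq_mul] at h7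
      exact h7

end

end Cfsg.Agent.H605.MX
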