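import Cfsg.Agent.H605.MX.Sl
import Cfsg.Agent.H81.TorOrth
import Cfsg.Agent.H129.TorusChar
import Cfsg.Agent.H696.GmnToral

/-!
# S3509, MIX, box M3b: frame automorphisms on the `SL₂` of a root (helper605)

`ps hp hs : SL₂(k) → D.group k` the homomorphism of the root `s`; `α` an automorphism of `D.group k` with
`α (x_s(t)) = x_{s'}(c f(t))`, `α (x_{-s}(t)) = x_{-s'}(c' f(t))`.

* `rigid` : `c c' = 1`;
* `act_fr` : the action of a frame automorphism (`IsFrob r e α`, `Fr … α θ`) on the root elements;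
* `alpha_hS` : `α (h_s(c)) = h_{s'}(c ^ r ^ e)`;
* `cX_hS` : `cX (h_s(c)) x = c ^ ⟨x, s^∨⟩`.
-/

set_option autoImplicit false
set_option linter.unusedSectionVars false

namespace Cfsg.Agent.H605.MX

open CoxeterSystem Cfsg Cfsg.Lie Cfsg.Lie.ChevalleyDatum
open Cfsg.Agent.ChevalleyStructure Cfsg.Agent.ChevalleyStructure.Elts Cfsg.Agent.ChevalleyStructure.CoxeterGeom
  Cfsg.Agent.ChevalleyStructure.CoxeterGeomTypes Cfsg.Agent.ChevalleyStructure.NPerm
open Cfsg.Agent.Tits.Roots Cfsg.Agent.Tits.Core Cfsg.Agent.Nodes Cfsg.Agent.Nodes.Reps Cfsg.Agent.Nodes.BNOf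
  Cfsg.Agent.Nodes.RGDChev
open Cfsg.Agent.KFacts.RgdField Cfsg.Agent.KFacts.RgdChevCoord
open Cfsg.Agent.BpExc Cfsg.Agent.BpExc.TorCent Cfsg.Agent.BpExc.TorChev Cfsg.Agent.BpExc.Tow
  Cfsg.Agent.BpExc.TowChev Cfsg.Agent.BpExc.Fr Cfsg.Agent.BpExc.LangFr
open Cfsg.Agent.ChevalleyStructure.SL2Hom (up lo mem_closure_SL2)
open Cfsg.Agent.Nodes.RGDFold Cfsg.Agent.Nodes.RGDFoldSL
open Cfsg.Agent.H469.Exc Cfsg.Agent.H469.Exc.SigFr Cfsg.Agent.H81.TorOrth
open Cfsg.Agent.H129.TorusChar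
open Cfsg.Agent.LangThm (mem_XX_vec)

universe u

variable {D : ChevalleyDatum} {l : ℕ} {M : CoxeterMatrix (Fin l)} (hp : IsType D l M) {k : Type u} [Field k]
  {W : Type*} [Group W] (cs : CoxeterSystem M W)

theorem xs_mem {s : ℕ} (hs : s < D.nroots) (t : k) : xs hp.inList s t ∈ XX D l k (vec D l s) :=
  (mem_XX_vec hp hs).2 ⟨t, rfl⟩

theorem xs_eq_xc {s : ℕ} (hs : s < D.nroots) (t : k) : xs hp.inList s t = xc hp (vec D l s) t :=
  Subtype.ext (by rw [coe_xs, coe_xc hp hs])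

theorem xs_inj {s : ℕ} (hs : s < D.nroots) {t u : k} (h : xs hp.inList s t = xs hp.inList s u) : t = u := by
  rw [xs_eq_xc hp hs, xs_eq_xc hp hs] at h
  exact xc_inj hp hs h

theorem xs_zero (s : ℕ) : xs hp.inList s (0 : k) = 1 := Subtype.ext (xG_zero hp.inList s)

include cs in
/-- opposite root groups meet trivially -/
theorem xs_ne_neg [IsAlgClosed k] (hk : LocFin k) (r : ℕ) [Fact r.Prime] [CharP k r] {s : ℕ} (hs : s < D.nroots) {t u : k} (ht : t ≠ 0) :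
    xs hp.inList s t ≠ xs hp.inList (D.neg s) u := by
  intro h
  have h1 : xs hp.inList s t ≠ 1 := by
    intro h1
    rw [← xs_zero hp s] at h1
    exact ht (xs_inj hp hs h1)
  have hr := (isRoot_iff hp cs (vec D l s)).2 ⟨s, hs, rfl⟩
  have hr' := (isRoot_iff hp cs (vec D l (D.neg s))).2 ⟨D.neg s, neg_lt hp.inList hs, rfl⟩
  have h2 := H696.GmnToral.XX_injective hp cs hk r hr hr' h1 (xs_mem hp hs t) (by
    rw [h]
    exact xs_mem hp (neg_lt hp.inList hs) u)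
  rw [vec_neg hp hs] at h2
  rcases hr.pos_or_neg with h3 | h3
  · refine hr.not_pos_neg h3 ?_
    rw [h2]
    exact neg_nonpos.2 h3
  · refine hr.not_pos_neg ?_ h3
    rw [h2]
    exact neg_nonneg.2 h3

theorem lo_add (a b : k) : lo (a + b) = lo a * lo b := by
  apply Subtype.ext
  rw [Matrix.SpecialLinearGroup.coe_mul]
  show (!![1, 0; a + b, 1] : Matrix (Fin 2) (Fin 2) k) = !![1, 0; a, 1] * !![1, 0; b, 1]
  ext i j
  fin_cases i <;> fin_cases j <;> simp [Matrix.mul_apply, Fin.sum_univ_two]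

theorem lo_zero : lo (0 : k) = 1 := by
  have h := lo_add (0 : k) 0
  rw [add_zero] at h
  exact mul_eq_left.1 h.symm

theorem lo_neg (a : k) : lo (-a) = (lo a)⁻¹ := by
  rw [eq_inv_iff_mul_eq_one, ← lo_add, neg_add_cancel, lo_zero]

theorem key_sl {c c' i : k} (hi : (1 - c * c') * i = 1) :
    (up c * (lo (-c') * up c)) * up c * (up c * (lo (-c') * up c))⁻¹ =
      lo (-(c' * i)) * up (c * (1 - c * c') ^ 2) * (lo (-(c' * i)))⁻¹ := by
  rw [mul_inv_eq_iff_eq_mul, ← lo_neg]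
  apply Subtype.ext
  show (!![1, c; 0, 1] : Matrix (Fin 2) (Fin 2) k) * (!![1, 0; -c', 1] * !![1, c; 0, 1]) * !![1, c; 0, 1] =
    !![1, 0; -(c' * i), 1] * !![1, c * (1 - c * c') ^ 2; 0, 1] * !![1, 0; - -(c' * i), 1] *
      (!![1, c; 0, 1] * (!![1, 0; -c', 1] * !![1, c; 0, 1]))
  ext a b
  fin_cases a <;> fin_cases b
  · simp [Matrix.mul_apply, Fin.sum_univ_two]
    linear_combination ((-1 * c * c') + (2 * c ^ 2 * c' ^ 2) + (-1 * c ^ 3 * c' ^ 3)) * hi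
  · simp [Matrix.mul_apply, Fin.sum_univ_two]
    linear_combination ((-2 * c ^ 2 * c') + (3 * c ^ 3 * c' ^ 2) + (-1 * c ^ 4 * c' ^ 3)) * hi
  · simp [Matrix.mul_apply, Fin.sum_univ_two]
    linear_combination ((1 * c * c' ^ 2 * i) + (-2 * c ^ 2 * c' ^ 3 * i) + (1 * c ^ 3 * c' ^ 4 * i)) * hi
  · simp [Matrix.mul_apply, Fin.sum_univ_two]
    linear_combination ((1 * c * c') + (2 * c ^ 2 * c' ^ 2 * i) + (-3 * c ^ 3 * c' ^ 3 * i) + (1 * c ^ 4 * c' ^ 4 * i)) * hi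

include cs in
/-- **Rigidity.** -/
theorem rigid [IsAlgClosed k] (hk : LocFin k) (r : ℕ) [Fact r.Prime] [CharP k r] {s s' : ℕ} (hs : s < D.nroots) (hs' : s' < D.nroots)
    {α : MulAut ↥(D.group k)} {f : k →+* k} {c c' : k} (hc : c ≠ 0)
    (h1 : ∀ t, α (xs hp.inList s t) = xs hp.inList s' (c * f t))
    (h2 : ∀ t, α (xs hp.inList (D.neg s) t) = xs hp.inList (D.neg s') (c' * f t)) : c * c' = 1 := by
  by_contra hcon
  have h0 : 1 - c * c' ≠ 0 := sub_ne_zero.2 (Ne.symm hcon)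
  have e1 : α (ps hp hs (wS 1)) = ps hp hs' (up c * (lo (-c') * up c)) := by
    rw [wS, map_mul, map_mul, map_mul, map_mul, ps_up, ps_lo, h1, h2, map_mul, map_mul, ps_up, ps_lo, inv_one, map_neg,
      map_one, mul_one, mul_neg, mul_one]
  have e2 := congrArg α (congrArg (ps hp hs) (wS_up (1 : k)))
  rw [map_mul, map_mul, map_inv, map_mul, map_mul, map_inv, e1, ps_up, ps_lo, h1, h2, map_one, mul_one, map_neg,
    map_one, mul_neg, mul_one, ← ps_up hp hs', ← map_mul, ← map_inv, ← map_mul, key_sl (mul_inv_cancel₀ h0), map_mul, map_mul,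
    map_inv, ps_up, mul_inv_eq_iff_eq_mul, ps_lo] at e2
  have e3 : xs hp.inList s' (c * (1 - c * c') ^ 2) = xs hp.inList (D.neg s') (-c') := by
    have e4 : xs hp.inList (D.neg s') (-c') * xs hp.inList (D.neg s') (-(c' * (1 - c * c')⁻¹)) =
        xs hp.inList (D.neg s') (-(c' * (1 - c * c')⁻¹)) * xs hp.inList (D.neg s') (-c') := by
      rw [← ps_lo hp hs', ← ps_lo hp hs', ← map_mul, ← map_mul, ← lo_add, ← lo_add, add_comm]
    rw [e4] at e2
    exact mul_left_cancel e2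
  exact xs_ne_neg hp cs hk r hs' (mul_ne_zero hc (pow_ne_zero 2 h0)) e3

include cs in
/-- **The action of a frame automorphism on the root elements.** -/
theorem act_fr [IsAlgClosed k] (hk : LocFin k) {r e : ℕ} [Fact r.Prime] [CharP k r] {α : MulAut ↥(D.group k)}
    {θ : (Fin l → ℤ) ≃+ (Fin l → ℤ)} (hα : IsFrob r e α) (F : Fr cs hp.isCartan (TT D k) (XX D l k) α θ)
    {s : ℕ} (hs : s < D.nroots) : ∃ s' < D.nroots, vec D l s' = θ (vec D l s) ∧ ∃ c : k, c ≠ 0 ∧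
      (∀ t, α (xs hp.inList s t) = xs hp.inList s' (c * t ^ r ^ e)) ∧
      ∀ t, α (xs hp.inList (D.neg s) t) = xs hp.inList (D.neg s') (c⁻¹ * t ^ r ^ e) := by
  have hns := neg_lt hp.inList hs
  have ha := (isRoot_iff hp cs (vec D l s)).2 ⟨s, hs, rfl⟩
  obtain ⟨s', hs', e'⟩ := (isRoot_iff hp cs _).1 ((F.root _).2 ha)
  have hns' := neg_lt hp.inList hs'
  obtain ⟨c, hc, h1⟩ := HX.fr_xc hp cs hα F ha
  obtain ⟨c', hc', h2⟩ := HX.fr_xc hp cs hα F ha.neg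
  rw [← e'] at h1
  rw [map_neg, ← e', ← vec_neg hp hs, ← vec_neg hp hs'] at h2
  have h1' : ∀ t, α (xs hp.inList s t) = xs hp.inList s' (c * iterateFrobenius k r e t) := fun t => by
    rw [xs_eq_xc hp hs, xs_eq_xc hp hs', h1, iterateFrobenius_def]
  have h2' : ∀ t, α (xs hp.inList (D.neg s) t) = xs hp.inList (D.neg s') (c' * iterateFrobenius k r e t) := fun t => by
    rw [xs_eq_xc hp hns, xs_eq_xc hp hns', h2, iterateFrobenius_def]
  have h3 := rigid hp cs hk r hs hs' hc h1' h2'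
  refine ⟨s', hs', e', c, hc, fun t => ?_, fun t => ?_⟩
  · rw [h1', iterateFrobenius_def]
  · rw [h2', iterateFrobenius_def, eq_inv_of_mul_eq_one_right h3]

/-! ### homomorphisms of `SL₂` -/

theorem hom_ext2 {F G : Type*} [Field F] [Group G] {f g : Matrix.SpecialLinearGroup (Fin 2) F →* G}
    (h1 : ∀ t, f (up t) = g (up t)) (h2 : ∀ t, f (lo t) = g (lo t)) : f = g := by
  have h : Subgroup.closure (Set.range (up (F := F)) ∪ Set.range (lo (F := F))) ≤ f.eqLocus g := by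
    rw [Subgroup.closure_le]
    rintro _ (⟨t, rfl⟩ | ⟨t, rfl⟩)
    · exact h1 t
    · exact h2 t
  exact MonoidHom.ext fun x => h (mem_closure_SL2 x)

theorem hS_lo {d : k} (hd : d ≠ 0) (a : k) : hS d * lo a * (hS d)⁻¹ = lo ((d ^ 2)⁻¹ * a) := by
  rw [mul_inv_eq_iff_eq_mul]
  apply Subtype.ext
  rw [Matrix.SpecialLinearGroup.coe_mul, Matrix.SpecialLinearGroup.coe_mul, coe_hS hd]
  show (!![d, 0; 0, d⁻¹] : Matrix (Fin 2) (Fin 2) k) * !![1, 0; a, 1] = !![1, 0; (d ^ 2)⁻¹ * a, 1] * !![d, 0; 0, d⁻¹]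
  ext i j
  fin_cases i <;> fin_cases j <;> simp [Matrix.mul_apply, Fin.sum_univ_two]
  field_simp

theorem hS_hS {d c : k} (hd : d ≠ 0) (hc : c ≠ 0) : hS d * hS c * (hS d)⁻¹ = hS c := by
  rw [mul_inv_eq_iff_eq_mul]
  apply Subtype.ext
  rw [Matrix.SpecialLinearGroup.coe_mul, Matrix.SpecialLinearGroup.coe_mul, coe_hS hd, coe_hS hc]
  ext i j
  fin_cases i <;> fin_cases j <;> simp [Matrix.mul_apply, Fin.sum_univ_two, mul_comm]

/-- conjugation by `hS μ` -/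
def cjS (μ : k) : Matrix.SpecialLinearGroup (Fin 2) k →* Matrix.SpecialLinearGroup (Fin 2) k :=
  (MulAut.conj (hS μ)).toMonoidHom

theorem cjS_up {μ : k} (hμ : μ ≠ 0) (t : k) : cjS μ (up t) = up (μ ^ 2 * t) := hS_up hμ t

theorem cjS_lo {μ : k} (hμ : μ ≠ 0) (t : k) : cjS μ (lo t) = lo ((μ ^ 2)⁻¹ * t) := hS_lo hμ t

theorem cjS_hS {μ c : k} (hμ : μ ≠ 0) (hc : c ≠ 0) : cjS μ (hS c) = hS c := hS_hS hμ hc

/-- an automorphism permuting root elements on the `SL₂` -/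
theorem alpha_ps {s s' : ℕ} (hs : s < D.nroots) (hs' : s' < D.nroots) {α : MulAut ↥(D.group k)} {f : k →+* k} {μ : k}
    (hμ : μ ≠ 0) (h1 : ∀ t, α (xs hp.inList s t) = xs hp.inList s' (μ ^ 2 * f t))
    (h2 : ∀ t, α (xs hp.inList (D.neg s) t) = xs hp.inList (D.neg s') ((μ ^ 2)⁻¹ * f t))
    (g : Matrix.SpecialLinearGroup (Fin 2) k) :
    α (ps hp hs g) = ps hp hs' (cjS μ (Matrix.SpecialLinearGroup.map f g)) := by
  have h : α.toMonoidHom.comp (ps hp hs) = ((ps hp hs').comp (cjS μ)).comp (Matrix.SpecialLinearGroup.map f) := by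
    refine hom_ext2 (fun t => ?_) fun t => ?_
    · show α (ps hp hs (up t)) = ps hp hs' (cjS μ (Matrix.SpecialLinearGroup.map f (up t)))
      rw [ps_up, h1, map_up, cjS_up hμ, ps_up]
    · show α (ps hp hs (lo t)) = ps hp hs' (cjS μ (Matrix.SpecialLinearGroup.map f (lo t)))
      rw [ps_lo, h2, map_lo, cjS_lo hμ, ps_lo]
  exact DFunLike.congr_fun h g

theorem alpha_hS {s s' : ℕ} (hs : s < D.nroots) (hs' : s' < D.nroots) {α : MulAut ↥(D.group k)} {f : k →+* k} {μ : k}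
    (hμ : μ ≠ 0) (h1 : ∀ t, α (xs hp.inList s t) = xs hp.inList s' (μ ^ 2 * f t))
    (h2 : ∀ t, α (xs hp.inList (D.neg s) t) = xs hp.inList (D.neg s') ((μ ^ 2)⁻¹ * f t)) {c : k} (hc : c ≠ 0) :
    α (ps hp hs (hS c)) = ps hp hs' (hS (f c)) := by
  rw [alpha_ps hp hs hs' hμ h1 h2, map_hS, cjS_hS hμ ((map_ne_zero f).2 hc)]

end Cfsg.Agent.H605.MX
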