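import Cfsg.Agent.H605.MX.Psi
import Cfsg.Agent.BpExc.RowsUntw

/-!
# S3509, MIX, box M3b: the homomorphisms `SL₂(F) → Y^α` (helper605)

* `exists_psi` : `ψ : SL₂(F) →* Y`, `|F| = (r ^ e) ^ a`, with values in `Y^α`, for an orbit of `a` pairwise strongly
  orthogonal roots.
-/

set_option autoImplicit false
set_option linter.unusedSectionVars false

namespace Cfsg.Agent.H605.MX

open CoxeterSystem Cfsg Cfsg.Lie Cfsg.Lie.ChevalleyDatum
open Cfsg.Agent.ChevalleyStructure Cfsg.Agent.ChevalleyStructure.Elts Cfsg.Agent.ChevalleyStructure.CoxeterGeom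
  Cfsg.Agent.ChevalleyStructure.CoxeterGeomTypes Cfsg.Agent.ChevalleyStructure.NPerm
open Cfsg.Agent.Tits.Roots Cfsg.Agent.Tits.Core Cfsg.Agent.Nodes Cfsg.Agent.Nodes.Reps Cfsg.Agent.Nodes.BNOf
  Cfsg.Agent.Nodes.RGDChev Cfsg.Agent.Nodes.Coroot
open Cfsg.Agent.KFacts.RgdField Cfsg.Agent.KFacts.RgdChevCoord
open Cfsg.Agent.BpExc Cfsg.Agent.BpExc.TorCent Cfsg.Agent.BpExc.TorChev Cfsg.Agent.BpExc.Tow
  Cfsg.Agent.BpExc.TowChev Cfsg.Agent.BpExc.Fr Cfsg.Agent.BpExc.LangFr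
open Cfsg.Agent.ChevalleyStructure.SL2Hom (up lo mem_closure_SL2)
open Cfsg.Agent.Nodes.RGDFold Cfsg.Agent.Nodes.RGDFoldSL
open Cfsg.Agent.H469.Exc Cfsg.Agent.H469.Exc.SigFr Cfsg.Agent.H81.TorOrth
open Cfsg.Agent.H129.TorusChar
open Cfsg.Agent.LangThm (mem_XX_vec)

universe u

section

variable {D : ChevalleyDatum} {l : ℕ} {M : CoxeterMatrix (Fin l)} (hp : IsType D l M) {k : Type u} [Field k]
  {W : Type*} [Group W] (cs : CoxeterSystem M W)
variable [IsAlgClosed k] (hk : LocFin k) {r e : ℕ} [Fact r.Prime] [CharP k r] {α : MulAut ↥(D.group k)}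
  {θ : (Fin l → ℤ) ≃+ (Fin l → ℤ)} (hα : IsFrob r e α) (F : Fr cs hp.isCartan (TT D k) (XX D l k) α θ)

theorem exists_sqrt {c : k} (hc : c ≠ 0) : ∃ μ : k, μ ≠ 0 ∧ μ ^ 2 = c := by
  obtain ⟨μ, hμ⟩ := IsAlgClosed.exists_pow_nat_eq c (n := 2) two_pos
  refine ⟨μ, ?_, hμ⟩
  rintro rfl
  exact hc (by rw [← hμ]; ring)

include hk hα F in
theorem pow_ps {s : ℕ} (hs : s < D.nroots) (n : ℕ) : ∃ s', ∃ hs' : s' < D.nroots, vec D l s' = θ^[n] (vec D l s) ∧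
    ∀ g, ∃ g', (α ^ n) (ps hp hs g) = ps hp hs' g' := by
  induction n with
  | zero => exact ⟨s, hs, rfl, fun g => ⟨g, by rw [pow_zero, MulAut.one_apply]⟩⟩
  | succ n ih =>
    obtain ⟨s', hs', h1, h2⟩ := ih
    obtain ⟨s'', hs'', h3, c, hc, h4, h5⟩ := act_fr hp cs hk hα F hs'
    obtain ⟨μ, hμ0, hμ⟩ := exists_sqrt hc
    refine ⟨s'', hs'', ?_, fun g => ?_⟩
    · rw [h3, h1, Function.iterate_succ_apply']
    · obtain ⟨g', hg'⟩ := h2 g
      refine ⟨cjS μ (Matrix.SpecialLinearGroup.map (iterateFrobenius k r e) g'), ?_⟩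
      rw [pow_succ', MulAut.mul_apply, hg']
      exact alpha_ps hp hs' hs'' hμ0 (fun t => by rw [h4, hμ, iterateFrobenius_def])
        (fun t => by rw [h5, hμ, iterateFrobenius_def]) g'

include hk hα F in
/-- the commuting conjugates -/
theorem orb_comm {s : ℕ} (hs : s < D.nroots) {a : ℕ}
    (hSO : ∀ i, 0 < i → i < a → SO cs hp.isCartan (vec D l s) (θ^[i] (vec D l s))) :
    ∀ i, 0 < i → i < a → ∀ g h, ps hp hs g * (α ^ i) (ps hp hs h) = (α ^ i) (ps hp hs h) * ps hp hs g := by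
  intro i hi hia g h
  obtain ⟨s', hs', h1, h2⟩ := pow_ps hp cs hk hα F hs i
  obtain ⟨h', e1⟩ := h2 h
  rw [e1]
  refine ps_comm_of_SO hp cs hs hs' ?_ g h'
  rw [h1]
  exact hSO i hi hia

include hk hα F in
/-- the action of `α ^ a` on the root elements of a root fixed by `θ ^ a` -/
theorem act_pow {s : ℕ} (hs : s < D.nroots) {a : ℕ} (hθ : θ^[a] (vec D l s) = vec D l s) : ∃ c : k, c ≠ 0 ∧
      (∀ t, (α ^ a) (xs hp.inList s t) = xs hp.inList s (c * t ^ (r ^ e) ^ a)) ∧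
      ∀ t, (α ^ a) (xs hp.inList (D.neg s) t) = xs hp.inList (D.neg s) (c⁻¹ * t ^ (r ^ e) ^ a) := by
  obtain ⟨θ', F', hθ'⟩ := F.pow a
  obtain ⟨s', hs', h1, c, hc, h2, h3⟩ := act_fr hp cs hk (hα.pow a) F' hs
  rw [hθ', hθ] at h1
  obtain rfl : s' = s := vec_inj hp hs' hs h1
  have e1 : r ^ (a * e) = (r ^ e) ^ a := by rw [← pow_mul, mul_comm]
  rw [e1] at h2 h3
  exact ⟨c, hc, h2, h3⟩

include hk hα F in
/-- **The homomorphism `ψ`.** -/
theorem exists_psi {s : ℕ} (hs : s < D.nroots) {a : ℕ} (hq : 1 < (r ^ e) ^ a) (hθ : θ^[a] (vec D l s) = vec D l s)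
    (hSO : ∀ i, 0 < i → i < a → SO cs hp.isCartan (vec D l s) (θ^[i] (vec D l s)))
    {E : Type*} [Field E] [Fintype E] (hE : Fintype.card E = (r ^ e) ^ a) (j : E →+* k) :
    ∃ ψ : Matrix.SpecialLinearGroup (Fin 2) E →* ↥(D.group k),
      (∀ g, α (ψ g) = ψ g) ∧ (∀ g, ∃ g', ψ g = dl α (ps hp hs) a g') ∧
      (∀ c, c ≠ 0 → ψ (hS c) = hTh hp hs α a (j c)) ∧
      (∀ u, (α ^ a) (xs hp.inList s u) = xs hp.inList s u → ∃ c, ψ (up c) = dl α (ps hp hs) a (up u) ∧ (c = 0 → u = 0)) ∧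
      (∀ c, ∃ u, ψ (up c) = dl α (ps hp hs) a (up u) ∧ (α ^ a) (xs hp.inList s u) = xs hp.inList s u ∧
        (u = 0 → c = 0)) ∧
      ∀ c, ∃ u, ψ (lo c) = dl α (ps hp hs) a (lo u) := by
  have ha : 0 < a := by
    rcases Nat.eq_zero_or_pos a with rfl | h
    · rw [pow_zero] at hq
      omega
    · exact h
  have H := orb_comm hp cs hk hα F hs hSO
  obtain ⟨c, hc, h1, h2⟩ := act_pow hp cs hk hα F hs hθ
  set Q := (r ^ e) ^ a with hQ
  -- `c v ^ Q = v`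
  obtain ⟨v, hv⟩ := IsAlgClosed.exists_pow_nat_eq c⁻¹ (n := Q - 1) (by omega)
  have hv0 : v ≠ 0 := by
    rintro rfl
    rw [zero_pow (by omega)] at hv
    exact inv_ne_zero hc hv.symm
  have hcv : c * v ^ Q = v := by
    have e1 : v ^ Q = v ^ (Q - 1) * v := by
      rw [← pow_succ]
      congr 1
      omega
    rw [e1, hv, ← mul_assoc, mul_inv_cancel₀ hc, one_mul]
  obtain ⟨μ, hμ0, hμ⟩ := exists_sqrt hv0
  have hEj : ∀ t : E, j t ^ Q = j t := fun t => by rw [← map_pow, ← hE, FiniteField.pow_card]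
  let φ₀ : Matrix.SpecialLinearGroup (Fin 2) E →* Matrix.SpecialLinearGroup (Fin 2) k :=
    (cjS μ).comp (Matrix.SpecialLinearGroup.map j)
  have u1 : ∀ t, φ₀ (up t) = up (v * j t) := fun t => by
    show cjS μ (Matrix.SpecialLinearGroup.map j (up t)) = _
    rw [map_up, cjS_up hμ0, hμ]
  have u2 : ∀ t, φ₀ (lo t) = lo (v⁻¹ * j t) := fun t => by
    show cjS μ (Matrix.SpecialLinearGroup.map j (lo t)) = _
    rw [map_lo, cjS_lo hμ0, hμ]
  have hfix : ∀ g, (α ^ a) (ps hp hs (φ₀ g)) = ps hp hs (φ₀ g) := by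
    intro g
    have h3 : (α ^ a).toMonoidHom.comp ((ps hp hs).comp φ₀) = (ps hp hs).comp φ₀ := by
      refine hom_ext2 (fun t => ?_) fun t => ?_
      · show (α ^ a) (ps hp hs (φ₀ (up t))) = ps hp hs (φ₀ (up t))
        rw [u1, ps_up, h1, mul_pow, hEj, ← mul_assoc, hcv]
      · show (α ^ a) (ps hp hs (φ₀ (lo t))) = ps hp hs (φ₀ (lo t))
        rw [u2, ps_lo, h2, mul_pow, hEj, ← mul_assoc, inv_pow, ← mul_inv, hcv]
    exact DFunLike.congr_fun h3 g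
  refine ⟨(dlHom H).comp φ₀, fun g => alpha_dl H ha (hfix g), fun g => ⟨φ₀ g, rfl⟩, fun d hd => ?_, fun u hu => ?_,
    fun d => ⟨v * j d, ?_, ?_, fun h => ?_⟩, fun d => ⟨v⁻¹ * j d, ?_⟩⟩
  · show dl α (ps hp hs) a (φ₀ (hS d)) = dl α (ps hp hs) a (hS (j d))
    congr 1
    show cjS μ (Matrix.SpecialLinearGroup.map j (hS d)) = _
    rw [map_hS, cjS_hS hμ0 ((map_ne_zero j).2 hd)]
  · rw [h1] at hu
    have h3 := xs_inj hp hs hu
    have h4 : (u / v) ^ Fintype.card E = u / v := by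
      rw [hE, div_pow, div_eq_div_iff (pow_ne_zero _ hv0) hv0]
      have h5 : u ^ Q * v = u ^ Q * (c * v ^ Q) := by rw [hcv]
      rw [h5]
      have h6 : u ^ Q * (c * v ^ Q) = (c * u ^ Q) * v ^ Q := by ring
      rw [h6, h3]
    obtain ⟨d, hd⟩ := Cfsg.Agent.H390.PslSpec.mem_range_of_pow_card j h4
    refine ⟨d, ?_, fun h => ?_⟩
    · show dl α (ps hp hs) a (φ₀ (up d)) = _
      rw [u1, hd, mul_div_cancel₀ _ hv0]
    · rw [h, map_zero] at hd
      rcases div_eq_zero_iff.1 hd.symm with h | h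
      · exact h
      · exact absurd h hv0
  · show dl α (ps hp hs) a (φ₀ (up d)) = _
    rw [u1]
  · have h3 := hfix (up d)
    rwa [u1, ps_up] at h3
  · rcases mul_eq_zero.1 h with h | h
    · exact absurd h hv0
    · exact (map_eq_zero j).1 h
  · show dl α (ps hp hs) a (φ₀ (lo d)) = _
    rw [u2]

end

end Cfsg.Agent.H605.MX
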