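import Cfsg.Agent.Nodes.RGDFoldSL
import Cfsg.Agent.KFacts.RgdChevCoord

/-!
# S3509, MIX, box M3b: normal subgroups met by a product of root elements (helper605)

`ψ : SL₂(F) →* G`, `K` a subgroup normalised by the image of `ψ`, `z = ψ (up c) z' ∈ K`, `c ≠ 0`, `z'` commutes with the
image of `ψ`.

* `range_le` : `z' = 1`, `F` finite: the image of `ψ` lies in `K`;
* `range_le_of` : the same if some `d` satisfies `d ≠ 0`, `d ^ 2 ≠ 1` (`|F| ≥ 4`);
* `hS_neg_one_mem` : `3 = 0`, `c ^ 2 = 1` (`|F| = 3`): `ψ (hS (-1)) ∈ K`;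
* `rho_mem` : `ψ (up c * lo c) ∈ K`.
-/

set_option autoImplicit false

namespace Cfsg.Agent.H605.MX

open Cfsg.Agent.ChevalleyStructure.SL2Hom (up lo mem_closure_SL2)
open Cfsg.Agent.Nodes.RGDFold Cfsg.Agent.Nodes.RGDFoldSL
open Cfsg.Agent.KFacts.RgdChevCoord (closure_sq)

section sl

variable {F : Type*} [Field F]

theorem up_add (a b : F) : up (a + b) = up a * up b := by
  apply Subtype.ext
  rw [Matrix.SpecialLinearGroup.coe_mul]
  show (!![1, a + b; 0, 1] : Matrix (Fin 2) (Fin 2) F) = !![1, a; 0, 1] * !![1, b; 0, 1]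
  ext i j
  fin_cases i <;> fin_cases j <;> simp [Matrix.mul_apply, Fin.sum_univ_two, add_comm]

theorem up_zero : up (0 : F) = 1 := by
  have h := up_add (0 : F) 0
  rw [add_zero] at h
  exact (mul_eq_left.1 h.symm)

theorem up_neg (a : F) : up (-a) = (up a)⁻¹ := by
  rw [eq_inv_iff_mul_eq_one, ← up_add, neg_add_cancel, up_zero]

theorem hS_up {d : F} (hd : d ≠ 0) (a : F) : hS d * up a * (hS d)⁻¹ = up (d ^ 2 * a) := by
  rw [mul_inv_eq_iff_eq_mul]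
  apply Subtype.ext
  rw [Matrix.SpecialLinearGroup.coe_mul, Matrix.SpecialLinearGroup.coe_mul, coe_hS hd]
  show (!![d, 0; 0, d⁻¹] : Matrix (Fin 2) (Fin 2) F) * !![1, a; 0, 1] = !![1, d ^ 2 * a; 0, 1] * !![d, 0; 0, d⁻¹]
  ext i j
  fin_cases i <;> fin_cases j <;> simp [Matrix.mul_apply, Fin.sum_univ_two]
  field_simp

theorem wS_up (a : F) : wS 1 * up a * (wS 1)⁻¹ = lo (-a) := by
  rw [lo_eq, neg_neg]

/-- `(up c lo c) ^ 2 = -1`, `c ^ 2 = 1`, `3 = 0` -/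
theorem sq_rho (h3 : (3 : F) = 0) {c : F} (hc : c ^ 2 = 1) : (up c * lo c) ^ 2 = hS (-1) := by
  apply Subtype.ext
  rw [pow_two, Matrix.SpecialLinearGroup.coe_mul, Matrix.SpecialLinearGroup.coe_mul,
    coe_hS (neg_ne_zero.2 one_ne_zero)]
  show (!![1, c; 0, 1] : Matrix (Fin 2) (Fin 2) F) * !![1, 0; c, 1] * (!![1, c; 0, 1] * !![1, 0; c, 1]) = _
  have h4 : c * c = 1 := by rw [← hc]; ring
  ext i j
  fin_cases i <;> fin_cases j
  · simp [Matrix.mul_apply, Fin.sum_univ_two, h4]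
    linear_combination 2 * h3
  · simp [Matrix.mul_apply, Fin.sum_univ_two, h4]
    linear_combination c * h3
  · simp [Matrix.mul_apply, Fin.sum_univ_two, h4]
    linear_combination c * h3
  · simp [Matrix.mul_apply, Fin.sum_univ_two, h4]
    linear_combination h3

end sl

section grp

variable {F : Type*} [Field F] {G : Type*} [Group G] {ψ : Matrix.SpecialLinearGroup (Fin 2) F →* G} {K : Subgroup G}

/-- The image of `ψ` lies in `K` if `K` contains one root element. -/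
theorem range_le [Finite F] (hK : ∀ g, ∀ x ∈ K, ψ g * x * (ψ g)⁻¹ ∈ K) {c : F} (hc : c ≠ 0) (h : ψ (up c) ∈ K)
    (g : Matrix.SpecialLinearGroup (Fin 2) F) : ψ g ∈ K := by
  let S : AddSubgroup F :=
    { carrier := {a | ψ (up (a * c)) ∈ K}
      zero_mem' := by
        show ψ (up (0 * c)) ∈ K
        rw [zero_mul, up_zero, map_one]
        exact K.one_mem
      add_mem' := fun {a b} ha hb => by
        show ψ (up ((a + b) * c)) ∈ K
        rw [add_mul, up_add, map_mul]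
        exact K.mul_mem ha hb
      neg_mem' := fun {a} ha => by
        show ψ (up (-a * c)) ∈ K
        rw [neg_mul, up_neg, map_inv]
        exact K.inv_mem ha }
  have hS : S = ⊤ := by
    refine closure_sq fun d hd => ?_
    show ψ (up (d ^ 2 * c)) ∈ K
    rw [← hS_up hd, map_mul, map_mul, map_inv]
    exact hK _ _ h
  have hup : ∀ a : F, ψ (up a) ∈ K := by
    intro a
    have h1 : a / c ∈ S := by rw [hS]; exact AddSubgroup.mem_top _
    have h2 : ψ (up (a / c * c)) ∈ K := h1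
    rwa [div_mul_cancel₀ a hc] at h2
  have hlo : ∀ a : F, ψ (lo a) ∈ K := by
    intro a
    rw [lo_eq, map_mul, map_mul, map_inv]
    exact hK _ _ (hup _)
  have h1 : Subgroup.closure (Set.range (up (F := F)) ∪ Set.range (lo (F := F))) ≤ K.comap ψ := by
    rw [Subgroup.closure_le]
    rintro _ (⟨a, rfl⟩ | ⟨a, rfl⟩)
    · exact hup a
    · exact hlo a
  exact h1 (mem_closure_SL2 g)

/-- the commutator with an element of the image -/
theorem conj_mem {z' x : G} (hz' : ∀ g, ψ g * z' = z' * ψ g) (hK : ∀ g, ∀ x ∈ K, ψ g * x * (ψ g)⁻¹ ∈ K)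
    {a : Matrix.SpecialLinearGroup (Fin 2) F} (hx : x = ψ a * z') (h : x ∈ K) (g : Matrix.SpecialLinearGroup (Fin 2) F) :
    ψ (a * (g * a⁻¹ * g⁻¹)) ∈ K := by
  have h1 := hK g _ (K.inv_mem h)
  have h2 := K.mul_mem h h1
  have e : x * (ψ g * x⁻¹ * (ψ g)⁻¹) = ψ (a * (g * a⁻¹ * g⁻¹)) := by
    rw [hx, mul_inv_rev, map_mul, map_mul, map_mul, map_inv, map_inv]
    have h3 : z' * (ψ g * (z'⁻¹ * (ψ a)⁻¹) * (ψ g)⁻¹) = ψ g * (ψ a)⁻¹ * (ψ g)⁻¹ := by
      calc z' * (ψ g * (z'⁻¹ * (ψ a)⁻¹) * (ψ g)⁻¹) = (z' * ψ g) * (z'⁻¹ * (ψ a)⁻¹) * (ψ g)⁻¹ := by group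
        _ = (ψ g * z') * (z'⁻¹ * (ψ a)⁻¹) * (ψ g)⁻¹ := by rw [hz']
        _ = _ := by group
    rw [mul_assoc, h3]
  rwa [e] at h2

/-- `|F| ≥ 4` -/
theorem range_le_of [Finite F] {z' x : G} (hz' : ∀ g, ψ g * z' = z' * ψ g)
    (hK : ∀ g, ∀ x ∈ K, ψ g * x * (ψ g)⁻¹ ∈ K) {c : F} (hc : c ≠ 0) (hx : x = ψ (up c) * z') (h : x ∈ K)
    {d : F} (hd : d ≠ 0) (hd2 : d ^ 2 ≠ 1) (g : Matrix.SpecialLinearGroup (Fin 2) F) : ψ g ∈ K := by
  have h1 := conj_mem hz' hK hx h (hS d)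
  have e : up c * (hS d * (up c)⁻¹ * (hS d)⁻¹) = up ((1 - d ^ 2) * c) := by
    rw [← up_neg, hS_up hd, ← up_add]
    congr 1
    ring
  rw [e] at h1
  exact range_le hK (mul_ne_zero (sub_ne_zero.2 hd2.symm) hc) h1 g

theorem rho_mem {z' x : G} (hz' : ∀ g, ψ g * z' = z' * ψ g)
    (hK : ∀ g, ∀ x ∈ K, ψ g * x * (ψ g)⁻¹ ∈ K) {c : F} (hx : x = ψ (up c) * z') (h : x ∈ K) : ψ (up c * lo c) ∈ K := by
  have h1 := conj_mem hz' hK hx h (wS 1)
  rwa [← up_neg, wS_up, neg_neg] at h1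

/-- `|F| = 3` -/
theorem hS_neg_one_mem (h3 : (3 : F) = 0) {z' x : G} (hz' : ∀ g, ψ g * z' = z' * ψ g)
    (hK : ∀ g, ∀ x ∈ K, ψ g * x * (ψ g)⁻¹ ∈ K) {c : F} (hc : c ^ 2 = 1) (hx : x = ψ (up c) * z') (h : x ∈ K) :
    ψ (hS (-1)) ∈ K := by
  rw [← sq_rho h3 hc, map_pow]
  exact K.pow_mem (rho_mem hz' hK hx h) 2

end grp

end Cfsg.Agent.H605.MX
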